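import Groth.Agent.Surf.K285.KTors
import Groth.Agent.CohqA.RelCoh2
import Groth.Agent.Sga67.SesImage
import Groth.Agent.PicF.K248.Descend
import Groth.Agent.S0927
import Groth.Agent.S1496
import Groth.Agent.Krr.H473.QProj
import Groth.Agent.Ega2.AmpleUnit
import Groth.Prelude.Def_Neron

/-!
# Torsion of the square of the relative canonical module: the K-theoretic part

`f : X ⟶ Y` proper with `f_* O_X = O_Y`, `R^p f_* O_X = 0` for `p > 0`, `L` invertible on `X` with `L ⊗ L ≅ f^* M`,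
`R^p f_* L = 0` for `p ≠ 2` and `R^2 f_* L ≅ O_Y`. Then `M` is torsion in `Pic Y`.
-/

set_option autoImplicit false

universe u

open CategoryTheory CategoryTheory.Limits AlgebraicGeometry

namespace K285.EnrK

open Groth.Agent Groth.Agent.Grpsch Groth.Agent.Fdesc.LocGen Groth.Agent.Krr.H485.PushCoh

theorem isFinLocFree_of_isInvertible {X : Scheme.{u}} {L : X.Modules} (hL : PicF.IsInvertible L) :
    FlatMod.IsFinLocFree L :=
  Ega2.QCohLocal.isFinLocFree_of_rank (Ega2.QCohLocal.isFinLocFreeOfRank_one_iff.2 hL)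

theorem isCoh_of_isInvertible {X : Scheme.{u}} [IsLocallyNoetherian X] {L : X.Modules}
    (hL : PicF.IsInvertible L) : Coh.IsCoh L :=
  PerfA.CohSerre.isCoh_of_isFinLocFree (isFinLocFree_of_isInvertible hL)

/-- A projective scheme over an affine Noetherian base has enough locally free modules. -/
theorem hasEnoughLocFree {R : Type u} [CommRing R] [IsDomain R] (X : Over (Spec (CommRingCat.of R)))
    (h : Neron.IsProjectiveOver R X) : KRR.HasEnoughLocFree X.left := by
  have h0 := (S1496.result ⟨Coh.structureModule (Spec (CommRingCat.of R)),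
    Ega2.Weight.isAmple_structureModule _⟩ X.hom).1
  obtain ⟨-, A, hA⟩ := h0.1 h
  exact Krr.H473.QProj.hasEnoughLocFree_of_isAmple hA

section core

variable {X Y : Scheme.{u}} (f : X ⟶ Y)

/-- The classes of `f^* M^j`. -/
theorem mk_pull_pow {L : X.Modules} (hL : PicF.IsInvertible L) {M : Y.Modules} (hM : PicF.IsInvertible M)
    (e : (Scheme.Modules.pullback f).obj M ≅ CohB1.tensorPow L 2) (j : ℕ) :
    PicGrp.mk ((Scheme.Modules.pullback f).obj (CohB1.tensorPow M j))
      (isInvertible_pullback f (isInvertible_tensorPow hM j)) = PicGrp.mk L hL ^ (2 * j) := by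
  have hpull : PicGrp.pull f (PicGrp.mk M hM) = PicGrp.mk L hL ^ 2 := by
    rw [PicGrp.pull_mk, ← PicGrp.mk_tensorPow hL 2]
    exact PicGrp.mk_congr e
  rw [← PicGrp.pull_mk f (isInvertible_tensorPow hM j), PicGrp.mk_tensorPow hM, map_pow, hpull, ← pow_mul]

theorem nonempty_even {L : X.Modules} (hL : PicF.IsInvertible L) {M : Y.Modules} (hM : PicF.IsInvertible M)
    (e : (Scheme.Modules.pullback f).obj M ≅ CohB1.tensorPow L 2) (j : ℕ) :
    Nonempty ((Scheme.Modules.pullback f).obj (CohB1.tensorPow M j) ≅ CohB1.tensorPow L (2 * j)) := by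
  refine (PicGrp.mk_eq_iff (isInvertible_pullback f (isInvertible_tensorPow hM j))
    (isInvertible_tensorPow hL (2 * j))).1 ?_
  rw [mk_pull_pow f hL hM e, PicGrp.mk_tensorPow]

theorem isZero_tensorMod {M Z : Y.Modules} (hZ : IsZero Z) : IsZero (CohB1.tensorMod M Z) :=
  ((DCoh.tensorBi (X := Y)).obj M).map_isZero hZ

theorem core [IsNoetherian X] [IsNoetherian Y] [IsIntegral Y] [IsProper f]
    [HasInjectiveResolutions X.Modules] (hreg : ∀ y : Y, IsRegularLocalRing (Y.presheaf.stalk y))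
    (hY : KRR.HasEnoughLocFree Y) (hO : ∀ U : Y.Opens, IsIso (f.app U))
    (hR : ∀ p : ℕ, 0 < p → IsZero ((Coh.Rpush f p).obj (Coh.structureModule X)))
    (L : X.Modules) (hL : PicF.IsInvertible L)
    (hRL : ∀ p : ℕ, p ≠ 2 → IsZero ((Coh.Rpush f p).obj L))
    (hRL2 : Nonempty ((Coh.Rpush f 2).obj L ≅ Coh.structureModule Y))
    (M : Y.Modules) (hM : PicF.IsInvertible M)
    (e : (Scheme.Modules.pullback f).obj M ≅ CohB1.tensorPow L 2) :
    ∃ n : ℕ, 1 ≤ n ∧ Nonempty (CohB1.tensorPow M n ≅ Coh.structureModule Y) := by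
  obtain ⟨d, hd⟩ := CohqA.RelCoh.exists_bound_Rpush f
  have hN : ∀ F : X.Modules, Coh.IsCoh F → ∀ q : ℕ, d + 2 < q → IsZero ((Coh.Rpush f q).obj F) :=
    fun F hF q hq => hd F hF.1 q (by omega)
  have hMf : ∀ j : ℕ, FlatMod.IsFinLocFree (CohB1.tensorPow M j) := fun j =>
    isFinLocFree_of_isInvertible (isInvertible_tensorPow hM j)
  have hLc : ∀ i : ℕ, Coh.IsCoh (CohB1.tensorPow L i) := fun i =>
    isCoh_of_isInvertible (isInvertible_tensorPow hL i)
  refine K285.KTors.torsion_of_push hreg hY (pushCoh f (d + 2) hN) L hL M hM (fun j => ?_) (fun j => ?_)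
  · obtain ⟨i⟩ := nonempty_even f hL hM e j
    have hz : ∀ q : ℕ, 1 ≤ q → IsZero ((Coh.Rpush f q).obj (CohB1.tensorPow L (2 * j))) := by
      intro q hq
      obtain ⟨a⟩ := S0927.result f (Coh.structureModule X) (CohB1.tensorPow M j) (hMf j) q
      have i' : CohB1.tensorPow L (2 * j) ≅
          CohB1.tensorMod ((Scheme.Modules.pullback f).obj (CohB1.tensorPow M j)) (Coh.structureModule X) :=
        i.symm ≪≫ (Ega2.Tens.runit _).symm
      exact (isZero_tensorMod (M := CohB1.tensorPow M j) (hR q hq)).of_iso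
        ((Coh.Rpush f q).mapIso i' ≪≫ a.symm)
    rw [pushCoh_clSub_of_acyclic f (d + 2) hN (hLc _) hz]
    obtain ⟨b⟩ := K248.Descend.push_iso_of_pull (f := f) hO (isInvertible_tensorPow hM j) i
    exact clSub_coh_iso b.symm
  · have i' : Nonempty (CohB1.tensorPow L (2 * j + 1) ≅
        CohB1.tensorMod ((Scheme.Modules.pullback f).obj (CohB1.tensorPow M j)) L) := by
      obtain ⟨i⟩ := nonempty_even f hL hM e j
      exact ⟨Ega2.Tens.mapTIso i.symm (Iso.refl L)⟩
    obtain ⟨i'⟩ := i'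
    have key : ∀ q : ℕ, Nonempty ((Coh.Rpush f q).obj (CohB1.tensorPow L (2 * j + 1)) ≅
        CohB1.tensorMod (CohB1.tensorPow M j) ((Coh.Rpush f q).obj L)) := by
      intro q
      obtain ⟨a⟩ := S0927.result f L (CohB1.tensorPow M j) (hMf j) q
      exact ⟨(Coh.Rpush f q).mapIso i' ≪≫ a.symm⟩
    rw [pushCoh_clSub f (d + 2) hN (hLc _), Finset.sum_eq_single 2]
    · obtain ⟨a⟩ := key 2
      obtain ⟨b⟩ := hRL2
      rw [show ((-1 : ℤ) ^ 2) = 1 by norm_num, one_smul]
      exact clSub_coh_iso (a ≪≫ Ega2.Tens.mapTIso (Iso.refl _) b ≪≫ Ega2.Tens.runit _)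
    · intro q _ hq
      obtain ⟨a⟩ := key q
      rw [Sga67.SesImage.clSub_zero _ ((isZero_tensorMod (hRL q hq)).of_iso a), smul_zero]
    · intro h
      exact absurd (Finset.mem_range.2 (by omega)) h

/-- Transport along `M ≅ f_* (L ⊗ L)`. -/
theorem transport {M N : Y.Modules} (hM : PicF.IsInvertible M) (e : M ≅ N)
    (h : ∃ n : ℕ, 1 ≤ n ∧ Nonempty (CohB1.tensorPow M n ≅ Coh.structureModule Y)) :
    PicF.IsInvertible N ∧ ∃ n : ℕ, 1 ≤ n ∧ Nonempty (CohB1.tensorPow N n ≅ Coh.structureModule Y) := by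
  have hN : PicF.IsInvertible N := K248.Basic.isInvertible_of_iso e hM
  refine ⟨hN, ?_⟩
  obtain ⟨n, hn, h⟩ := h
  refine ⟨n, hn, ?_⟩
  rw [← PicGrp.mk_eq_one_iff (isInvertible_tensorPow hM n), PicGrp.mk_tensorPow hM, PicGrp.mk_congr (hM := hN) e,
    ← PicGrp.mk_tensorPow hN] at h
  exact (PicGrp.mk_eq_one_iff _).1 h

end core

end K285.EnrK
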