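import Groth.Agent.RatSing.K870.EtaIff
import Groth.Agent.Dual.H310.OpenBC
import Groth.Agent.Dcoh.DerSch
import Groth.Agent.S3635

/-!
# Higher direct images of the relative canonical module

`f : X ⟶ S` proper and smooth of relative dimension `d`, `S` Noetherian, `O_S = f_* O_X` and `R^p f_* O_X = 0` for
`p > 0`, `L` a `d`-th exterior power of `Ω_{X/S}`. Then `R^p f_* L = 0` for `p ≠ d` and `R^d f_* L ≅ O_S`.
-/

set_option autoImplicit false

universe u

open CategoryTheory CategoryTheory.Limits AlgebraicGeometry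

attribute [local instance] HasDerivedCategory.standard

namespace K285.RelDual

open DCoh Groth.Agent K870.EtaIff

theorem main {X S : Scheme.{u}} [IsNoetherian S] (d : ℕ) (f : X ⟶ S) [IsProper f]
    [SmoothOfRelativeDimension d f] [HasInjectiveResolutions X.Modules] (h0 : IsIso (ClSub.unitToPush f))
    (hR : ∀ p : ℕ, 0 < p → IsZero ((Coh.Rpush f p).obj (Coh.structureModule X))) (L : X.Modules)
    (hL : ExtPow.IsExtPow d (Omega.sheaf f) L) :
    (∀ p : ℕ, p ≠ d → IsZero ((Coh.Rpush f p).obj L)) ∧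
      Nonempty ((Coh.Rpush f d).obj L ≅ Coh.structureModule S) := by
  have hX : IsNoetherian X := Dual.H310.OpenBC.isNoetherian_of_finiteType f
  have hRp : DCoh.HasRpush f := Dcoh.DerSch.hasRpush f
  have hLp : DCoh.HasLpull f := S0959.result f
  have hf : DCoh.RpushPreservesQCoh f := Dual.H310.OpenBC.preservesQCoh f
  have hla := Dual.H310.OpenBC.isLeftAdjoint_rpushQ f hf
  let a := (DCoh.RpushQ f hf).rightAdjoint
  let adj : DCoh.RpushQ f hf ⊣ a := Adjunction.ofIsLeftAdjoint _
  let O : DCoh.DQCoh S := ⟨inD S (Coh.structureModule S),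
    PerfA.QCohD.isQCohD_inD _ (Fdesc.StructMod.isQCoh_structureModule S)⟩
  obtain ⟨e⟩ := S3635.result S X d f hf a adj O ⟨Iso.refl _⟩ L hL
  obtain ⟨τ, hτ⟩ := Ega1.ADualUniv.univ_of_adj (h := hf) adj O
  have hη : IsIso (eta f) := (isIso_eta_iff f).2 ⟨h0, hR⟩
  have hτi : IsIso τ := isIso_trace f hη O.property hτ
  let E : (Rpush f).obj ((inD X L)⟦(d : ℤ)⟧) ≅ inD S (Coh.structureModule S) :=
    (Rpush f).mapIso e.symm ≪≫ asIso τ
  have key : ∀ p : ℕ, (Coh.Rpush f p).obj L ≅
      HD (inD S (Coh.structureModule S)) ((p : ℤ) - d) := fun p =>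
    (PerfC.RpushSingle.iso f p L).symm ≪≫
      (LoccohB.DQCohBasic.HDRpushShiftIso f (inD X L) (d : ℤ) ((p : ℤ) - d) p (by omega)).symm ≪≫
      (DerivedCategory.homologyFunctor S.Modules ((p : ℤ) - d)).mapIso E
  have hO : ∀ i : ℤ, i ≠ 0 → IsZero (HD (inD S (Coh.structureModule S)) i) := fun i hi => by
    rcases lt_or_gt_of_ne hi with h | h
    · exact DerivedCategory.isZero_of_isGE _ 0 i h
    · exact DerivedCategory.isZero_of_isLE _ 0 i h
  refine ⟨fun p hp => (hO ((p : ℤ) - d) (by omega)).of_iso (key p), ⟨key d ≪≫ ?_⟩⟩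
  rw [sub_self]
  exact (DerivedCategory.singleFunctorCompHomologyFunctorIso S.Modules 0).app (Coh.structureModule S)

end K285.RelDual
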