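import Groth.Agent.Surf.K285.EnrGeom
import Groth.Agent.Surf.K285.EnrK
import Groth.Agent.Surf.K285.RelDual
import Groth.Agent.Curves.K333.Stein
import Groth.Agent.S15539
import Groth.Agent.S0458
import Groth.Agent.Fga.HShift
import Groth.Agent.Vancyc.H878.OmegaRank
import Groth.Agent.Krr.H487.KerRank
import Groth.Agent.Krr.H482.PullTens
import Groth.Agent.Ega3B.PullTensor
import Groth.Agent.VarietyA.RegSmoothSch
import Groth.Agent.PerfB.StructFlat

/-!
# Families of Enriques surfaces

The push-forward of the square of the relative canonical module of a family of Enriques surfaces is a torsion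
invertible module.
-/

set_option autoImplicit false

universe u

open CategoryTheory CategoryTheory.Limits AlgebraicGeometry

namespace K285.EnrMain

open Groth.Agent Groth.Agent.Grpsch Groth.Agent.Fdesc.LocGen Groth.Agent.Grpsch.CubeData

theorem isNoetherian_of_finiteType {X Y : Scheme.{u}} [IsNoetherian Y] (f : X ⟶ Y) [LocallyOfFiniteType f]
    [QuasiCompact f] : IsNoetherian X := by
  have : CompactSpace X := QuasiCompact.compactSpace_of_compactSpace f
  have : IsLocallyNoetherian X := LocallyOfFiniteType.isLocallyNoetherian f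
  constructor

/-- The structure module of a surface with `H^1(O) = 0 = H^2(O)` has no higher cohomology. -/
theorem subsingleton_HH {F : Scheme.{u}} [IsNoetherian F] (hdim : topologicalKrullDim ↥F = 2)
    (h1 : Subsingleton (Coh.HH F (Coh.structureModule F) 1))
    (h2 : Subsingleton (Coh.HH F (Coh.structureModule F) 2)) (p : ℕ) (hp : 0 < p) :
    Subsingleton (Coh.HH F (Coh.structureModule F) p) := by
  have : TopologicalSpace.NoetherianSpace ↥F.toTopCat := inferInstanceAs (TopologicalSpace.NoetherianSpace ↥F)
  rcases (by omega : p = 1 ∨ p = 2 ∨ 2 < p) with rfl | rfl | h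
  · exact h1
  · exact h2
  · exact S0458.result (X := F.toTopCat) 2 (by exact_mod_cast hdim.le) (Coh.toAb (Coh.structureModule F)) p h

variable {k : Type u} [Field k] [IsAlgClosed k] {X Y : Scheme.{u}}

theorem main (f : X ⟶ Y) (q : Y ⟶ Spec (CommRingCat.of k)) [IsIntegral X] [IsIntegral Y]
    [IsProper q] [Smooth q] [IsProper (f ≫ q)] [Smooth (f ≫ q)] [Flat f] (hY : KRR.HasEnoughLocFree Y)
    (hfib : ∀ y : Y, IsClosed ({y} : Set Y) →
      IsIntegral (f.fiber y) ∧ Smooth (f.fiberToSpecResidueField y) ∧ topologicalKrullDim ↥(f.fiber y) = 2 ∧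
        Subsingleton (Coh.HH (f.fiber y) (Coh.structureModule (f.fiber y)) 1) ∧
        Subsingleton (Coh.HH (f.fiber y) (Coh.structureModule (f.fiber y)) 2) ∧
        ∀ M : (f.fiber y).Modules, ExtPow.IsExtPow 2 (Omega.sheaf (f.fiberToSpecResidueField y)) M →
          Nonempty (CohB1.tensorPow M 2 ≅ Coh.structureModule (f.fiber y)))
    (L : X.Modules) (hL : ExtPow.IsExtPow 2 (Omega.sheaf f) L) :
    PicF.IsInvertible ((Scheme.Modules.pushforward f).obj (CohB1.tensorPow L 2)) ∧
      ∃ n : ℕ, 1 ≤ n ∧ Nonempty (CohB1.tensorPow ((Scheme.Modules.pushforward f).obj (CohB1.tensorPow L 2)) n ≅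
        Coh.structureModule Y) := by
  have hf : IsProper f := IsProper.of_comp f q
  have hNY : IsNoetherian Y := isNoetherian_of_finiteType q
  have hNX : IsNoetherian X := isNoetherian_of_finiteType f
  have hJ : JacobsonSpace Y := LocallyOfFiniteType.jacobsonSpace q
  have hinj : HasInjectiveResolutions X.Modules := Dcoh.DerSch.hasInjectiveResolutions X
  have hgi : GeometricallyIntegral f := EnrGeom.geometricallyIntegral f q fun y hy => (hfib y hy).1
  have hsm : Smooth f := EnrGeom.smooth f q fun y hy => (hfib y hy).2.1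
  have hgc : GeometricallyConnected f := Fdesc.GeomAlgClosed.geometricallyConnected_of_geometricallyIrreducible f
  have hsurj : Surjective f := inferInstance
  have hrd : SmoothOfRelativeDimension 2 f := EnrGeom.smoothOfRelativeDimension f q 2 fun y hy => by
    exact_mod_cast (hfib y hy).2.2.1
  have hO : ∀ (T : Scheme.{u}) (g : T ⟶ Y) (U : T.Opens), IsIso ((pullback.snd f g).app U) := fun T g U =>
    K333.Stein.isIso_app (pullback.snd f g) U
  have hO' : ∀ U : Y.Opens, IsIso (f.app U) := fun U => K333.Stein.isIso_app f U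
  have hreg : ∀ y : Y, IsRegularLocalRing (Y.presheaf.stalk y) := fun y =>
    VarietyA.RegSmoothSch.isRegularLocalRing_stalk_of_mem_smoothLocus q y (by rw [q.smoothLocus_eq_top]; trivial)
  -- the higher direct images of the structure module
  have hR : ∀ p : ℕ, 0 < p → IsZero ((Coh.Rpush f p).obj (Coh.structureModule X)) := fun p hp =>
    ClosedFib.isZero_Rpush_of_closed f _ (Fdesc.StructMod.isCoh_structureModule X)
      (PerfB.StructFlat.isFlatOver_structure f) p fun y hy => by
        have : IsProper (f.fiberToSpecResidueField y) :=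
          inferInstanceAs (IsProper (pullback.snd f (Y.fromSpecResidueField y)))
        have hN : IsNoetherian (f.fiber y) :=
          isNoetherian_of_finiteType (f.fiberToSpecResidueField y)
        obtain ⟨-, -, h3, h4, h5, -⟩ := hfib y hy
        exact Fga.HShift.subsingleton_of_iso (Krr.H482.PullTens.pullUnitIso (f.fiberι y)).symm p
          (subsingleton_HH h3 h4 h5 p hp)
  -- the relative canonical module
  have hLi : PicF.IsInvertible L := by
    have h2 := Vancyc.H878.OmegaRank.isFinLocFreeOfRank_omega 2 f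
    have h3 := Krr.H487.KerRank.isFinLocFreeOfRank_extPow h2 hL
    rw [Nat.choose_self] at h3
    exact Ega2.QCohLocal.isFinLocFreeOfRank_one_iff.1 h3
  obtain ⟨hRL, hRL2⟩ := RelDual.main 2 f (K333.Stein.isIso_unitToPush f) hR L hL
  have htriv : ∀ y : Y, IsClosed ({y} : Set Y) →
      Triv ((Scheme.Modules.pullback (f.fiberι y)).obj (CohB1.tensorPow L 2)) := by
    intro y hy
    obtain ⟨-, -, -, -, -, h6⟩ := hfib y hy
    have : IsProper (f.fiberToSpecResidueField y) :=
      inferInstanceAs (IsProper (pullback.snd f (Y.fromSpecResidueField y)))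
    obtain ⟨a⟩ := h6 _ (S15539.result X Y (f.fiber y) _ f (f.fiberToSpecResidueField y) (f.fiberι y)
      (Y.fromSpecResidueField y) (IsPullback.of_hasPullback f (Y.fromSpecResidueField y)) 2 L hL)
    obtain ⟨b⟩ := Ega3B.PullTensor.nonempty_pullPowIso (f.fiberι y) hLi 2
    exact ⟨b ≪≫ a⟩
  obtain ⟨M, hM, ⟨e⟩⟩ := ClosedFib.exists_pull_of_triv_closed f hO (CohB1.tensorPow L 2)
    (isInvertible_tensorPow hLi 2) hsurj htriv
  obtain ⟨e'⟩ := K248.Descend.push_iso_of_pull (f := f) hO' hM e
  exact EnrK.transport hM e' (EnrK.core f hreg hY hO' hR L hLi hRL hRL2 M hM e)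

end K285.EnrMain
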