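import Groth.Agent.PicF.K248.Descend
import Groth.Agent.PerfA.Restrict
import Groth.Agent.S2385
import Mathlib.Topology.JacobsonSpace

/-!
# Conditions on closed fibres over a Jacobson base

* `eq_univ_of_isLocallyClosed`: a locally closed subset of a Jacobson space containing all closed points is everything;
* `exists_pull_of_triv_closed`: over a reduced Jacobson base, an invertible module which is trivial on the closed
  fibres comes from the base;
* `isZero_Rpush_of_closed`: vanishing of higher direct images from vanishing on the closed fibres.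
-/

set_option autoImplicit false

universe u

open CategoryTheory CategoryTheory.Limits AlgebraicGeometry
open Groth.Agent Groth.Agent.Grpsch Groth.Agent.Grpsch.CubeData Groth.Agent.Fdesc.LocGen

namespace K285.ClosedFib

/-- In a Jacobson space a locally closed subset containing all closed points is everything. -/
theorem eq_univ_of_isLocallyClosed {T : Type*} [TopologicalSpace T] [JacobsonSpace T] {S : Set T}
    (hS : IsLocallyClosed S) (h : ∀ t : T, IsClosed ({t} : Set T) → t ∈ S) : S = Set.univ := by
  have h' : closedPoints T ⊆ S := fun t ht => h t ht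
  obtain ⟨U, Z, hU, hZ, rfl⟩ := hS
  have hZ' : Z = Set.univ := by
    have h1 : closure (closedPoints T) ⊆ Z :=
      hZ.closure_subset_iff.2 (h'.trans Set.inter_subset_right)
    rwa [closure_closedPoints, Set.univ_subset_iff] at h1
  have hU' : U = Set.univ := by
    by_contra hne
    have hne' : (Uᶜ).Nonempty := by
      rwa [Set.nonempty_compl]
    obtain ⟨z, hz1, hz2⟩ := nonempty_inter_closedPoints hne' hU.isClosed_compl.isLocallyClosed
    exact hz1 (h' hz2).1
  rw [hU', hZ', Set.inter_univ]

theorem forall_of_isOpen {T : Type*} [TopologicalSpace T] [JacobsonSpace T] {P : T → Prop}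
    (hP : IsOpen {t | P t}) (h : ∀ t : T, IsClosed ({t} : Set T) → P t) (t : T) : P t := by
  have := eq_univ_of_isLocallyClosed hP.isLocallyClosed h
  have ht : t ∈ {t | P t} := by rw [this]; trivial
  exact ht

variable {X S : Scheme.{u}} (f : X ⟶ S)

/-- Over a reduced Jacobson base an invertible module which is trivial on the closed fibres comes from the base. -/
theorem exists_pull_of_triv_closed [IsProper f] [Flat f] [LocallyOfFinitePresentation f]
    (hO : ∀ (T : Scheme.{u}) (g : T ⟶ S) (U : T.Opens), IsIso ((pullback.snd f g).app U))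
    [IsReduced S] [JacobsonSpace S] (L : X.Modules) (hL : PicF.IsInvertible L) (hsurj : Surjective f)
    (h : ∀ s : S, IsClosed ({s} : Set S) → Triv ((Scheme.Modules.pullback (f.fiberι s)).obj L)) :
    ∃ N : S.Modules, PicF.IsInvertible N ∧ Nonempty ((Scheme.Modules.pullback f).obj N ≅ L) := by
  obtain ⟨Z, j, hj1, hj2, hj⟩ := S1431.result f hO L
    (Ega2.QCohLocal.isFinLocFree_of_rank (Ega2.QCohLocal.isFinLocFreeOfRank_one_iff.2 hL))
  have hr : Set.range j = Set.univ := by
    refine eq_univ_of_isLocallyClosed j.isLocallyClosed_range fun s hs => ?_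
    rw [K248.Basic.mem_range_iff, hj]
    obtain ⟨e⟩ := h s hs
    refine ⟨Coh.structureModule _, Ega2.QCohLocal.isFinLocFree_of_rank
      (Ega2.QCohLocal.isFinLocFreeOfRank_one_iff.2 isInvertible_structureModule), ?_⟩
    obtain ⟨i⟩ : Triv ((Scheme.Modules.pullback (pullback.snd f (S.fromSpecResidueField s))).obj
        (Coh.structureModule _)) := Triv.pullback _ ⟨Iso.refl _⟩
    exact ⟨i ≪≫ e.symm⟩
  have hs : Surjective j := ⟨Set.range_eq_univ.mp hr⟩
  have hcl : IsClosedImmersion j := IsClosedImmersion.of_isPreimmersion j (by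
    rw [hr]
    exact isClosed_univ)
  have hiso : IsIso j := isIso_of_isClosedImmersion_of_surjective j
  obtain ⟨N, hN, ⟨e⟩⟩ := (hj S (𝟙 S)).1 ⟨inv j, IsIso.inv_hom_id j⟩
  have hN' : PicF.IsInvertible N := K248.Basic.isInvertible_of_pullback (pullback.snd f (𝟙 S)) hN
    (K248.Basic.isInvertible_of_iso e.symm (isInvertible_pullback _ hL))
  let p : X ⟶ pullback f (𝟙 S) := pullback.lift (𝟙 X) f (by rw [Category.id_comp, Category.comp_id])
  refine ⟨N, hN', ⟨?_⟩⟩
  exact (Scheme.Modules.pullbackCongr (pullback.lift_snd (𝟙 X) f _).symm).app N ≪≫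
    ((Scheme.Modules.pullbackComp p (pullback.snd f (𝟙 S))).app N).symm ≪≫
    (Scheme.Modules.pullback p).mapIso e ≪≫
    (Scheme.Modules.pullbackComp p (pullback.fst f (𝟙 S))).app L ≪≫
    (Scheme.Modules.pullbackCongr (pullback.lift_fst (𝟙 X) f _)).app L ≪≫
    (Scheme.Modules.pullbackId X).app L

/-- Vanishing of a higher direct image from the vanishing of the cohomology of the closed fibres. -/
theorem isZero_Rpush_of_closed [IsProper f] [IsLocallyNoetherian S] [JacobsonSpace S]
    [HasInjectiveResolutions X.Modules] (F : X.Modules) (hF : Coh.IsCoh F) (hfl : FlatMod.IsFlatOver f F)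
    (n : ℕ) (h : ∀ s : S, IsClosed ({s} : Set S) → Subsingleton (CohIII.fiberH f F s n)) :
    IsZero ((Coh.Rpush f n).obj F) := by
  refine PerfA.Restrict.isZero_of_restrict_opens _ fun s => ?_
  have h1 : ∀ s : S, IsClosed ({s} : Set S) →
      ∃ U : S.Opens, s ∈ U ∧ IsZero (((Coh.Rpush f n).obj F).restrict U.ι) :=
    fun s hs => S2385.result f F hF hfl s n (h s hs)
  refine forall_of_isOpen (P := fun s => ∃ U : S.Opens, s ∈ U ∧
    IsZero (((Coh.Rpush f n).obj F).restrict U.ι)) ?_ h1 s
  rw [isOpen_iff_forall_mem_open]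
  rintro x ⟨U, hxU, hU⟩
  exact ⟨U, fun y hy => ⟨U, hy, hU⟩, U.2, hxU⟩

end K285.ClosedFib
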