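import Groth.Agent.Surf.K285.ClosedFib
import Groth.Agent.S2553
import Groth.Agent.S5934
import Groth.Agent.EGA43.K132.SmoothProperFib
import Groth.Agent.Variety.K658.RelDimComp
import Groth.Agent.Variety.K431.GeomGenFib
import Groth.Agent.Sga3C.GeomRedPerf
import Groth.Agent.Fdesc.GeomAlgClosed
import Groth.Agent.Picfga.CurveRelDim

/-!
# Families with smooth integral closed fibres

`q : Y ⟶ Spec k` locally of finite type, `k` algebraically closed, `f : X ⟶ Y` proper, flat and locally of finite
presentation. If the closed fibres of `f` are integral (smooth) then `f` is geometrically integral (smooth); the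
relative dimension is that of a closed fibre.
-/

set_option autoImplicit false

universe u

open CategoryTheory CategoryTheory.Limits AlgebraicGeometry TopologicalSpace

namespace K285.EnrGeom

open Groth.Agent K285.ClosedFib

variable {k : Type u} [Field k]

/-- An integral scheme smooth over a field is smooth of some relative dimension. -/
theorem exists_relDim (X : Scheme.{u}) (f : X ⟶ Spec (CommRingCat.of k))
    [Smooth f] [IsIntegral X] : ∃ n : ℕ, SmoothOfRelativeDimension n f := by
  choose m V hV hxV hsm hdim hbasic using Picfga.CurveRelDim.exists_local_data k X f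
  have hconst : ∀ x y, m x = m y := by
    intro x y
    obtain ⟨z, hz⟩ := nonempty_preirreducible_inter (V x).2 (V y).2 ⟨x, hxV x⟩ ⟨y, hxV y⟩
    obtain ⟨a, b, hab, hza⟩ := exists_basicOpen_le_affine_inter (hV x) (hV y) z hz
    have h1 := hbasic x a ⟨z, hza⟩
    have h2 := hbasic y b ⟨z, hab ▸ hza⟩
    rw [← hab, h1] at h2
    exact_mod_cast h2
  have : Nonempty X := inferInstance
  obtain ⟨x₀⟩ := this
  refine ⟨m x₀, ⟨fun x => ?_⟩⟩
  obtain ⟨U, hU, e, hs⟩ := hsm x
  rw [hconst x x₀] at hs
  exact ⟨U, hU, V x, hV x, hxV x, e, hs⟩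

variable {X Y : Scheme.{u}} (f : X ⟶ Y) (q : Y ⟶ Spec (CommRingCat.of k))

include q

theorem exists_closed [LocallyOfFiniteType q] [Nonempty Y] : ∃ y : Y, IsClosed ({y} : Set Y) := by
  have : JacobsonSpace Y := LocallyOfFiniteType.jacobsonSpace q
  obtain ⟨y, -, hy⟩ := nonempty_inter_closedPoints (Set.univ_nonempty (α := Y)) isClosed_univ.isLocallyClosed
  exact ⟨y, hy⟩

theorem geometricallyIntegral [IsAlgClosed k] [LocallyOfFiniteType q] [IsProper f] [Flat f]
    [LocallyOfFinitePresentation f] (h : ∀ y : Y, IsClosed ({y} : Set Y) → IsIntegral (f.fiber y)) :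
    GeometricallyIntegral f := by
  have : JacobsonSpace Y := LocallyOfFiniteType.jacobsonSpace q
  rw [GeometricallyIntegral.iff_geometricallyIntegral_fiber]
  refine forall_of_isOpen (S2553.result f) fun y hy => ?_
  have hk : IsAlgClosed (Y.residueField y) := K431.GeomGenFib.isAlgClosed_residueField k q y hy
  have := h y hy
  have h1 : GeometricallyReduced (f.fiberToSpecResidueField y) :=
    Sga3C.GeomRedPerf.geometricallyReduced_of_isReduced (k := Y.residueField y) _
  have h2 : GeometricallyIrreducible (f.fiberToSpecResidueField y) :=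
    Fdesc.GeomAlgClosed.geometricallyIrreducible_of_irreducibleSpace (k := Y.residueField y) _
  exact GeometricallyIntegral.of_geometricallyReduced_of_geometricallyIrreducible _

theorem smooth [LocallyOfFiniteType q] [IsProper f] [Flat f] [LocallyOfFinitePresentation f]
    (h : ∀ y : Y, IsClosed ({y} : Set Y) → Smooth (f.fiberToSpecResidueField y)) : Smooth f := by
  have : JacobsonSpace Y := LocallyOfFiniteType.jacobsonSpace q
  exact K132.SmoothProperFib.smooth f (forall_of_isOpen (S5934.result f) h)

theorem smoothOfRelativeDimension [LocallyOfFiniteType q] [IsIntegral X] [IsIntegral Y] [Smooth f] [Smooth q]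
    [Surjective f] (n : ℕ)
    (h : ∀ y : Y, IsClosed ({y} : Set Y) → topologicalKrullDim ↥(f.fiber y) = n) :
    SmoothOfRelativeDimension n f := by
  obtain ⟨d, hd⟩ := exists_relDim Y q
  obtain ⟨N, hN⟩ := exists_relDim X (f ≫ q)
  obtain ⟨-, hf⟩ := K658.RelDimComp.of_comp f q d N hd hN
  obtain ⟨y, hy⟩ := exists_closed q (Y := Y)
  have hne : Nonempty ↥(f.fiber y) := K132.SmoothProperFib.nonempty_fiber f y
  have : MorphismProperty.IsStableUnderBaseChange (@SmoothOfRelativeDimension.{u} (N - d)) :=
    smoothOfRelativeDimension_isStableUnderBaseChange (N - d)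
  have h1 : SmoothOfRelativeDimension (N - d) (f.fiberToSpecResidueField y) :=
    MorphismProperty.IsStableUnderBaseChange.of_isPullback (self := this)
      (IsPullback.of_hasPullback f (Y.fromSpecResidueField y)) hf
  have h2 := K658.RelDimComp.topologicalKrullDim_eq (k := Y.residueField y) (N - d)
    (f.fiberToSpecResidueField y)
  rw [h y hy] at h2
  have h3 : n = N - d := by exact_mod_cast h2
  rw [h3]
  exact hf

end K285.EnrGeom
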