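import Groth.Agent.AbSch.K451.DetPic
import Groth.Agent.Sga67.K0Basic
import Groth.Agent.Krr.H503.OpenRes
import Groth.Agent.Krr.H485.PushCoh
import Groth.Agent.VBCurve.K707.Base
import Groth.Agent.Dcoh.StalkT
import Groth.Agent.PerfB.TensInv
import Groth.Agent.Vancyc.H175.TensAdd
import Groth.Agent.S3746
import Groth.Agent.S17876

/-!
# Torsion invertible modules from K-theory

* `exists_det`: on a regular integral Noetherian scheme with enough locally free modules there is a homomorphism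
  `K_0(Coh Y) → Pic(Y)` sending the class of an invertible module to itself;
* `torsion_of_push`: `f : X ⟶ Y` proper, `L` invertible on `X`, `M` invertible on `Y`, `f_! [L^(2j)] = [M^j]` and
  `f_! [L^(2j+1)] = [M^j]` for all `j`: then `M` is torsion in `Pic(Y)`.
-/

set_option autoImplicit false

universe u v w

open CategoryTheory CategoryTheory.Limits AlgebraicGeometry

namespace K285.KTors

open Groth.Agent K451.DetPic Groth.Agent.VarietyA.DegRank Groth.Agent.Sga67.K0Basic Groth.Agent.Grpsch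
open Groth.Agent.Krr.H485.PushCoh

section det

variable {Y : Scheme.{u}} [IsIntegral Y]

open Classical in
/-- The determinant of a finite locally free module in the Picard group, additively. -/
noncomputable def detF (M : Y.Modules) : Additive (PicGrp.Pic Y) :=
  if h : FlatMod.IsFinLocFree M then Additive.ofMul (det (rk M) M (K707.Base.isFinLocFreeOfRank_rk h)) else 0

theorem detF_of (M : Y.Modules) (r : ℕ) (h : FlatMod.IsFinLocFreeOfRank r M) :
    detF M = Additive.ofMul (det r M h) := by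
  have hf : FlatMod.IsFinLocFree M := isFinLocFree_of_rank h
  rw [detF, dif_pos hf]
  exact congrArg _ (det_congr _ _ (K707.Base.rk_of_rank h) (Iso.refl M))

theorem detF_add (S : ShortComplex Y.Modules) (hS : S.ShortExact) (h₁ : FlatMod.IsFinLocFree S.X₁)
    (_h₂ : FlatMod.IsFinLocFree S.X₂) (h₃ : FlatMod.IsFinLocFree S.X₃) :
    detF S.X₂ = detF S.X₁ + detF S.X₃ := by
  have r1 := K707.Base.isFinLocFreeOfRank_rk h₁
  have r3 := K707.Base.isFinLocFreeOfRank_rk h₃
  rw [detF_of _ _ r1, detF_of _ _ r3, detF_of _ _ (rank_extension hS r1 r3), det_extension hS r1 r3]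
  rfl

/-- The determinant homomorphism on coherent modules. -/
theorem exists_det [IsNoetherian Y] (hreg : ∀ x : Y, IsRegularLocalRing (Y.presheaf.stalk x))
    (hY : KRR.HasEnoughLocFree Y) :
    ∃ D : SGA6.Kcoh Y →+ Additive (PicGrp.Pic Y), ∀ (M : Y.Modules) (hM : PicF.IsInvertible M),
      D (KZero.clSub (fun M : Y.Modules => Coh.IsCoh M) M) = Additive.ofMul (PicGrp.mk M hM) := by
  have hc : ∀ M : Y.Modules, FlatMod.IsFinLocFree M → Coh.IsCoh M :=
    fun M hM => PerfA.CohSerre.isCoh_of_isFinLocFree hM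
  have h := S3746.result Y hreg hY hc
  let e := AddEquiv.ofBijective _ h
  obtain ⟨lf, hlf⟩ : ∃ lf : SGA6.Kvb Y →+ Additive (PicGrp.Pic Y), ∀ M : Y.Modules, FlatMod.IsFinLocFree M →
      lf (KRR.cl Y M) = detF M :=
    ⟨liftSub (KRR.vbP Y) detF (fun S hS h1 h2 h3 => detF_add S hS h1 h2 h3), fun M hM =>
      liftSub_clSub (P := KRR.vbP Y) detF _ hM⟩
  refine ⟨lf.comp e.symm.toAddMonoidHom, fun M hM => ?_⟩
  have hMr := rank_one_iff.mpr hM
  have hMf : FlatMod.IsFinLocFree M := isFinLocFree_of_rank hMr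
  have h1 : e (KRR.cl Y M) = KZero.clSub (fun M : Y.Modules => Coh.IsCoh M) M :=
    Krr.H503.OpenRes.dl_cl hc hMf
  have h2 : e.symm (KZero.clSub (fun M : Y.Modules => Coh.IsCoh M) M) = KRR.cl Y M := by
    rw [← h1, AddEquiv.symm_apply_apply]
  refine (congrArg lf h2).trans ?_
  rw [hlf M hMf, detF_of M 1 hMr, det_one hMr hM]

end det

section alg

variable {A : Type v} {B : Type w} [AddCommGroup A] [AddCommGroup B]

theorem torsion_aux (t : A →+ A) (g : A →+ B) (x : A) (μ : B)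
    (h0 : ∀ j : ℕ, g ((⇑t)^[2 * j] x) = j • μ) (h1 : ∀ j : ℕ, g ((⇑t)^[2 * j + 1] x) = j • μ)
    (n : ℕ) (hn : (⇑(t - 1 • AddMonoidHom.id A))^[n] x = 0) : ∃ m : ℕ, 1 ≤ m ∧ m • μ = 0 := by
  set φ : A →+ A := t - 1 • AddMonoidHom.id A with hφ
  have hφa : ∀ a, φ a = t a - a := fun a => by simp [hφ]
  have hstep : ∀ (m i : ℕ), g ((⇑φ)^[m + 1] ((⇑t)^[i] x)) =
      g ((⇑φ)^[m] ((⇑t)^[i + 1] x)) - g ((⇑φ)^[m] ((⇑t)^[i] x)) := by
    intro m i
    rw [Function.iterate_succ_apply, hφa, iterate_map_sub, map_sub, ← Function.iterate_succ_apply' (⇑t) i x]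
  have key : ∀ (m j : ℕ), g ((⇑φ)^[m + 2] ((⇑t)^[2 * j] x)) = ((-2 : ℤ) ^ m) • μ ∧
      g ((⇑φ)^[m + 2] ((⇑t)^[2 * j + 1] x)) = -(((-2 : ℤ) ^ m) • μ) := by
    intro m
    induction m with
    | zero =>
      have e0 : ∀ j : ℕ, g ((⇑φ)^[1] ((⇑t)^[2 * j] x)) = 0 := by
        intro j
        rw [hstep 0, Function.iterate_zero_apply, Function.iterate_zero_apply, h0, h1, sub_self]
      have e1 : ∀ j : ℕ, g ((⇑φ)^[1] ((⇑t)^[2 * j + 1] x)) = μ := by
        intro j
        rw [hstep 0, Function.iterate_zero_apply, Function.iterate_zero_apply, h1,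
          show 2 * j + 1 + 1 = 2 * (j + 1) by ring, h0, succ_nsmul, add_sub_cancel_left]
      intro j
      constructor
      · rw [show 0 + 2 = 1 + 1 from rfl, hstep 1, e0, e1, sub_zero, pow_zero, one_smul]
      · rw [show 0 + 2 = 1 + 1 from rfl, hstep 1, e1, show 2 * j + 1 + 1 = 2 * (j + 1) by ring, e0, zero_sub,
          pow_zero, one_smul]
    | succ m ih =>
      intro j
      constructor
      · rw [show m + 1 + 2 = (m + 2) + 1 by ring, hstep (m + 2), (ih j).1, (ih j).2, pow_succ, mul_comm,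
          mul_smul]
        have : (-2 : ℤ) • ((-2 : ℤ) ^ m • μ) = -((-2 : ℤ) ^ m • μ) - (-2 : ℤ) ^ m • μ := by
          rw [neg_smul, two_smul]; abel
        rw [this]
      · rw [show m + 1 + 2 = (m + 2) + 1 by ring, hstep (m + 2), (ih j).2,
          show 2 * j + 1 + 1 = 2 * (j + 1) by ring, (ih (j + 1)).1, pow_succ, mul_comm, mul_smul]
        have : (-2 : ℤ) • ((-2 : ℤ) ^ m • μ) = -((-2 : ℤ) ^ m • μ) - (-2 : ℤ) ^ m • μ := by
          rw [neg_smul, two_smul]; abel
        rw [this]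
        abel
  have h2 := (key n 0).1
  rw [mul_zero, Function.iterate_zero_apply, show n + 2 = 2 + n by ring, Function.iterate_add_apply, hn,
    iterate_map_zero, map_zero] at h2
  refine ⟨2 ^ n, Nat.one_le_two_pow, ?_⟩
  rcases Nat.even_or_odd n with he | ho
  · rw [he.neg_pow] at h2
    have h3 : ((2 ^ n : ℕ) : ℤ) • μ = 0 := by push_cast; exact h2.symm
    rwa [natCast_zsmul] at h3
  · rw [ho.neg_pow, neg_smul, zero_eq_neg] at h2
    have h3 : ((2 ^ n : ℕ) : ℤ) • μ = 0 := by push_cast; exact h2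
    rwa [natCast_zsmul] at h3

end alg

section geom

variable {X Y : Scheme.{u}} [IsNoetherian X] [IsNoetherian Y] [IsIntegral Y]

/-- Tensor powers are iterates of the functor `L ⊗ -` on classes. -/
theorem exists_twist (L : X.Modules) (hL : PicF.IsInvertible L) :
    ∃ t : SGA6.Kcoh X →+ SGA6.Kcoh X,
      (∀ i : ℕ, (⇑t)^[i] (KZero.clSub (cohP X) (Coh.structureModule X)) =
        KZero.clSub (cohP X) (CohB1.tensorPow L i)) ∧
      ∃ n : ℕ, ∀ y, (⇑(t - 1 • AddMonoidHom.id (SGA6.Kcoh X)))^[n] y = 0 := by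
  have hLr := Ega2.QCohLocal.isFinLocFreeOfRank_one_iff.mpr hL
  have hLf := K707.Base.isFinLocFree_of_rank hLr
  have hpl : PreservesFiniteLimits ((DCoh.tensorBi (X := X)).obj L) :=
    Dcoh.Stalk.preservesFiniteLimits_tensorBi_obj L (PerfB.TensInv.isFlat_of_isInvertible hL)
  have hpc : PreservesFiniteColimits ((DCoh.tensorBi (X := X)).obj L) :=
    Dcoh.Stalk.preservesFiniteColimits_tensorBi_obj L
  have hadd : ((DCoh.tensorBi (X := X)).obj L).Additive := inferInstance
  have hc : ∀ M : X.Modules, Coh.IsCoh M → Coh.IsCoh (((DCoh.tensorBi (X := X)).obj L).obj M) := fun M hM =>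
    VarietyB.TensCoh.isCoh_tensorMod (VarietyB.TensCoh.HasBases.of_isFinLocFree hLf) hM
  refine ⟨SGA6.mapSub ((DCoh.tensorBi (X := X)).obj L) (fun M : X.Modules => Coh.IsCoh M)
    (fun M : X.Modules => Coh.IsCoh M) hc, fun i => ?_, S17876.result 1 L hLr hc⟩
  have hcoh : ∀ i : ℕ, Coh.IsCoh (CohB1.tensorPow L i) := fun i =>
    PerfA.CohSerre.isCoh_of_isFinLocFree (K707.Base.isFinLocFree_of_rank
      (Ega2.QCohLocal.isFinLocFreeOfRank_one_iff.mpr (Fdesc.LocGen.isInvertible_tensorPow hL i)))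
  induction i with
  | zero => rfl
  | succ i ih =>
    rw [Function.iterate_succ_apply', ih, Sga67.K0Loc.clSub_eq_mk _ (hcoh i)]
    refine (Sga67.K0Loc.mapSub_mk _ _ _ _ _ _).trans ?_
    rw [← Sga67.K0Loc.clSub_eq_mk _ (hc _ (hcoh i))]
    exact clSub_coh_iso (Ega2.Tens.swap L (CohB1.tensorPow L i))

theorem torsion_of_push (hreg : ∀ x : Y, IsRegularLocalRing (Y.presheaf.stalk x))
    (hY : KRR.HasEnoughLocFree Y) (g : SGA6.Kcoh X →+ SGA6.Kcoh Y) (L : X.Modules)
    (hL : PicF.IsInvertible L) (M : Y.Modules) (hM : PicF.IsInvertible M)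
    (h0 : ∀ j : ℕ, g (KZero.clSub (cohP X) (CohB1.tensorPow L (2 * j))) =
      KZero.clSub (cohP Y) (CohB1.tensorPow M j))
    (h1 : ∀ j : ℕ, g (KZero.clSub (cohP X) (CohB1.tensorPow L (2 * j + 1))) =
      KZero.clSub (cohP Y) (CohB1.tensorPow M j)) :
    ∃ n : ℕ, 1 ≤ n ∧ Nonempty (CohB1.tensorPow M n ≅ Coh.structureModule Y) := by
  obtain ⟨D, hD⟩ := exists_det hreg hY
  obtain ⟨t, ht, n, hn⟩ := exists_twist L hL
  have hMj : ∀ j : ℕ, D (KZero.clSub (cohP Y) (CohB1.tensorPow M j)) =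
      j • Additive.ofMul (PicGrp.mk M hM) := by
    intro j
    refine (hD _ (Fdesc.LocGen.isInvertible_tensorPow hM j)).trans ?_
    rw [PicGrp.mk_tensorPow]
    rfl
  obtain ⟨m, hm, hm'⟩ := torsion_aux t (D.comp g) (KZero.clSub (cohP X) (Coh.structureModule X))
    (Additive.ofMul (PicGrp.mk M hM))
    (fun j => by
      rw [ht]
      exact (congrArg D (h0 j)).trans (hMj j))
    (fun j => by
      rw [ht]
      exact (congrArg D (h1 j)).trans (hMj j)) n (hn _)
  refine ⟨m, hm, ?_⟩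
  have h2 : PicGrp.mk (CohB1.tensorPow M m) (Fdesc.LocGen.isInvertible_tensorPow hM m) = 1 := by
    rw [PicGrp.mk_tensorPow]
    exact hm'
  exact (PicGrp.mk_eq_one_iff _).mp h2

end geom

end K285.KTors
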